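import Cfsg.Agent.Lib.KnownSimple.Leech.McL.Rep
import Cfsg.Agent.Lib.KnownSimple.Leech.Top3
import Cfsg.Agent.Lib.KnownSimple.MathieuOut

/-!
# The outer automorphism group of the McLaughlin group
-/

set_option autoImplicit false

namespace Cfsg.Agent.Lib.KnownSimple.Leech.McL

open Cfsg Cfsg.Spor Cfsg.Agent.Lib.Compute Cfsg.Agent.Lib.Golay Cfsg.Agent.Lib.KnownSimple.PE
open Cfsg.Agent.Lib.KnownSimple Cfsg.Agent.Lib.KnownSimple.AutRigid
open Cfsg.Agent.Lib.KnownSimple.Leech Cfsg.Agent.Lib.KnownSimple.Leech.McLData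

/-- The encoding. -/
abbrev E : Enc (Fin N) N := encFin N
/-- The image of the representation. -/
noncomputable abbrev H : Subgroup (Equiv.Perm (Fin N)) := R.rep.range
/-- The group. -/
abbrev G : Type := ↥H

/-- Lookup in a permutation table. -/
noncomputable def pq (t i : ℕ) : ℕ := pget 11 2047 t i

theorem coe_code_mul {a b : G} {f g : ℕ → ℕ} (h1 : E.IsCode (a : Equiv.Perm (Fin N)) f)
    (h2 : E.IsCode (b : Equiv.Perm (Fin N)) g) :
    E.IsCode ((a * b : G) : Equiv.Perm (Fin N)) (fun i => f (g i)) := isCode_mul h1 h2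

theorem memU22 : MathieuFacts.U ∈ M22 := MathieuOut.mem_M22_of MathieuFacts.mem_U MathieuFacts.code_U (by decide +kernel) (by decide +kernel)
theorem memX22 : MathieuFacts.X ∈ M22 := MathieuOut.memX_M22
theorem memY22 : MathieuFacts.Y4 ∈ M22 := MathieuOut.mem_M22_of MathieuFacts.mem_Y4 MathieuFacts.code_Y4 (by decide +kernel) (by decide +kernel)

theorem phi_mem_G {π : ↥M24} (hπ : π.1 ∈ M22) : phi π ∈ Spor.McL := by
  obtain ⟨h1, h3, _⟩ := phi_fix hπ
  exact ⟨⟨phi_mem π, h1⟩, h3⟩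

/-- `M22` acting on the points. -/
noncomputable def Θ : ↥M22 →* Equiv.Perm (Fin N) :=
  R.rep.comp (MonoidHom.codRestrict (phi.comp (Subgroup.inclusion MathieuOut.M22_le)) Spor.McL
    (fun π => phi_mem_G (π := Subgroup.inclusion MathieuOut.M22_le π) π.2))

/-- An element of the group. -/
noncomputable def gU : ↥Spor.McL := ⟨phi ⟨_, MathieuFacts.mem_U⟩, phi_mem_G memU22⟩
/-- An element of the group. -/
noncomputable def gX : ↥Spor.McL := ⟨phi ⟨_, MathieuFacts.mem_X⟩, phi_mem_G memX22⟩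
/-- An element of the group. -/
noncomputable def gY : ↥Spor.McL := ⟨phi ⟨_, MathieuFacts.mem_Y4⟩, phi_mem_G memY22⟩

theorem chkE : chkElt SE SE2 = true := by decide +kernel

/-- The element outside the monomial group. -/
noncomputable def eP : Equiv.Perm LL := Classical.choose (exists_elt chkE)
theorem eP_co0 : eP ∈ Co0 := (Classical.choose_spec (exists_elt chkE)).1
theorem eP_spec : ∀ (x : LL) (j : ℕ), j < 24 → dotS (rowOf SE j) (toF x) = 8 * ((eP x : LL) : Vec) (pt j) :=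
  (Classical.choose_spec (exists_elt chkE)).2
theorem colsE : ∀ i, ∀ q ∈ rowOf SE i, q.1 < 24 := cols_of_all (by decide +kernel)
theorem eP_v : eP leechV = leechV := img_of_S colsE eP_spec rowV_pt rowV_pt (by decide +kernel)
theorem eP_u : eP leechU = leechU := img_of_S colsE eP_spec rowU_pt rowU_pt (by decide +kernel)
/-- An element of the group. -/
noncomputable def gE : ↥Spor.McL := ⟨eP, ⟨eP_co0, eP_v⟩, eP_u⟩

/-- An element of the image. -/
noncomputable def D0 : G := ⟨R.rep gU, gU, rfl⟩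
/-- An element of the image. -/
noncomputable def D1 : G := ⟨R.rep gX, gX, rfl⟩
/-- An element of the image. -/
noncomputable def D2 : G := ⟨R.rep gY, gY, rfl⟩
/-- An element of the image. -/
noncomputable def D3 : G := ⟨R.rep gE, gE, rfl⟩

theorem code_D0 : E.IsCode ((D0 : G) : Equiv.Perm (Fin N)) (pq t0) :=
  R.code_of_P (g := gU) (π := ⟨_, MathieuFacts.mem_U⟩) rfl MathieuFacts.code_U (by decide +kernel)
theorem code_D1 : E.IsCode ((D1 : G) : Equiv.Perm (Fin N)) (pq t1) :=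
  R.code_of_P (g := gX) (π := ⟨_, MathieuFacts.mem_X⟩) rfl MathieuFacts.code_X (by decide +kernel)
theorem code_D2 : E.IsCode ((D2 : G) : Equiv.Perm (Fin N)) (pq t2) :=
  R.code_of_P (g := gY) (π := ⟨_, MathieuFacts.mem_Y4⟩) rfl MathieuFacts.code_Y4 (by decide +kernel)
theorem code_D3 : E.IsCode ((D3 : G) : Equiv.Perm (Fin N)) (pq t3) :=
  R.code_of_S (g := gE) colsE eP_spec (by decide +kernel)
theorem codei_D0 : E.IsCode ((D0⁻¹ : G) : Equiv.Perm (Fin N)) (pq ti0) :=
  inv_of_chk code_D0 (by decide +kernel)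
theorem codei_D1 : E.IsCode ((D1⁻¹ : G) : Equiv.Perm (Fin N)) (pq ti1) :=
  inv_of_chk code_D1 (by decide +kernel)
theorem codei_D2 : E.IsCode ((D2⁻¹ : G) : Equiv.Perm (Fin N)) (pq ti2) :=
  inv_of_chk code_D2 (by decide +kernel)
theorem codei_D3 : E.IsCode ((D3⁻¹ : G) : Equiv.Perm (Fin N)) (pq ti3) :=
  inv_of_chk code_D3 (by decide +kernel)

/-- The generators. -/
def Sx : Set (Equiv.Perm (Fin N)) := {(D0 : Equiv.Perm (Fin N)), (D1 : Equiv.Perm (Fin N)), (D2 : Equiv.Perm (Fin N)), (D3 : Equiv.Perm (Fin N))}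
/-- The group generated by the generators. -/
def K : Subgroup (Equiv.Perm (Fin N)) := Subgroup.closure Sx

theorem memK_D0 : (D0 : Equiv.Perm (Fin N)) ∈ K := Subgroup.subset_closure (by simp [Sx])
theorem memK_D1 : (D1 : Equiv.Perm (Fin N)) ∈ K := Subgroup.subset_closure (by simp [Sx])
theorem memK_D2 : (D2 : Equiv.Perm (Fin N)) ∈ K := Subgroup.subset_closure (by simp [Sx])
theorem memK_D3 : (D3 : Equiv.Perm (Fin N)) ∈ K := Subgroup.subset_closure (by simp [Sx])

/-- A strong generator. -/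
noncomputable def D4 : G := D1⁻¹ * (D2⁻¹ * (D2 * (D1⁻¹ * (D2⁻¹ * (D2⁻¹ * (D1⁻¹))))))
theorem code_D4 : E.IsCode ((D4 : G) : Equiv.Perm (Fin N)) (pq t4) := by
  have h := coe_code_mul codei_D1 (coe_code_mul codei_D2 (coe_code_mul code_D2 (coe_code_mul codei_D1 (coe_code_mul codei_D2 (coe_code_mul codei_D2 (codei_D1))))))
  exact congr_of_chk h (by decide +kernel)
theorem codei_D4 : E.IsCode ((D4⁻¹ : G) : Equiv.Perm (Fin N)) (pq ti4) :=
  inv_of_chk code_D4 (by decide +kernel)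
theorem memK_D4 : (D4 : Equiv.Perm (Fin N)) ∈ K := K.mul_mem (K.inv_mem memK_D1) (K.mul_mem (K.inv_mem memK_D2) (K.mul_mem (memK_D2) (K.mul_mem (K.inv_mem memK_D1) (K.mul_mem (K.inv_mem memK_D2) (K.mul_mem (K.inv_mem memK_D2) (K.inv_mem memK_D1))))))
/-- A strong generator. -/
noncomputable def D5 : G := D1⁻¹ * (D4⁻¹ * (D0⁻¹ * (D2⁻¹ * (D0 * (D0 * (D1 * (D2 * (D2 * (D1 * (D0 * (D1)))))))))))
theorem code_D5 : E.IsCode ((D5 : G) : Equiv.Perm (Fin N)) (pq t5) := by
  have h := coe_code_mul codei_D1 (coe_code_mul codei_D4 (coe_code_mul codei_D0 (coe_code_mul codei_D2 (coe_code_mul code_D0 (coe_code_mul code_D0 (coe_code_mul code_D1 (coe_code_mul code_D2 (coe_code_mul code_D2 (coe_code_mul code_D1 (coe_code_mul code_D0 (code_D1)))))))))))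
  exact congr_of_chk h (by decide +kernel)
theorem codei_D5 : E.IsCode ((D5⁻¹ : G) : Equiv.Perm (Fin N)) (pq ti5) :=
  inv_of_chk code_D5 (by decide +kernel)
theorem memK_D5 : (D5 : Equiv.Perm (Fin N)) ∈ K := K.mul_mem (K.inv_mem memK_D1) (K.mul_mem (K.inv_mem memK_D4) (K.mul_mem (K.inv_mem memK_D0) (K.mul_mem (K.inv_mem memK_D2) (K.mul_mem (memK_D0) (K.mul_mem (memK_D0) (K.mul_mem (memK_D1) (K.mul_mem (memK_D2) (K.mul_mem (memK_D2) (K.mul_mem (memK_D1) (K.mul_mem (memK_D0) (memK_D1)))))))))))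
/-- A strong generator. -/
noncomputable def D6 : G := D4⁻¹ * (D5⁻¹ * (D5⁻¹ * (D1⁻¹ * (D0⁻¹ * (D0⁻¹ * (D4⁻¹ * (D0 * (D0 * (D0 * (D2 * (D1⁻¹ * (D0 * (D2)))))))))))))
theorem code_D6 : E.IsCode ((D6 : G) : Equiv.Perm (Fin N)) (pq t6) := by
  have h := coe_code_mul codei_D4 (coe_code_mul codei_D5 (coe_code_mul codei_D5 (coe_code_mul codei_D1 (coe_code_mul codei_D0 (coe_code_mul codei_D0 (coe_code_mul codei_D4 (coe_code_mul code_D0 (coe_code_mul code_D0 (coe_code_mul code_D0 (coe_code_mul code_D2 (coe_code_mul codei_D1 (coe_code_mul code_D0 (code_D2)))))))))))))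
  exact congr_of_chk h (by decide +kernel)
theorem codei_D6 : E.IsCode ((D6⁻¹ : G) : Equiv.Perm (Fin N)) (pq ti6) :=
  inv_of_chk code_D6 (by decide +kernel)
theorem memK_D6 : (D6 : Equiv.Perm (Fin N)) ∈ K := K.mul_mem (K.inv_mem memK_D4) (K.mul_mem (K.inv_mem memK_D5) (K.mul_mem (K.inv_mem memK_D5) (K.mul_mem (K.inv_mem memK_D1) (K.mul_mem (K.inv_mem memK_D0) (K.mul_mem (K.inv_mem memK_D0) (K.mul_mem (K.inv_mem memK_D4) (K.mul_mem (memK_D0) (K.mul_mem (memK_D0) (K.mul_mem (memK_D0) (K.mul_mem (memK_D2) (K.mul_mem (K.inv_mem memK_D1) (K.mul_mem (memK_D0) (memK_D2)))))))))))))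
/-- A strong generator. -/
noncomputable def D7 : G := D4⁻¹ * (D6⁻¹ * (D6⁻¹ * (D6⁻¹ * (D0⁻¹ * (D5⁻¹ * (D6⁻¹ * (D4⁻¹ * (D0⁻¹ * (D1 * (D1⁻¹ * (D2 * (D1))))))))))))
theorem code_D7 : E.IsCode ((D7 : G) : Equiv.Perm (Fin N)) (pq t7) := by
  have h := coe_code_mul codei_D4 (coe_code_mul codei_D6 (coe_code_mul codei_D6 (coe_code_mul codei_D6 (coe_code_mul codei_D0 (coe_code_mul codei_D5 (coe_code_mul codei_D6 (coe_code_mul codei_D4 (coe_code_mul codei_D0 (coe_code_mul code_D1 (coe_code_mul codei_D1 (coe_code_mul code_D2 (code_D1))))))))))))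
  exact congr_of_chk h (by decide +kernel)
theorem codei_D7 : E.IsCode ((D7⁻¹ : G) : Equiv.Perm (Fin N)) (pq ti7) :=
  inv_of_chk code_D7 (by decide +kernel)
theorem memK_D7 : (D7 : Equiv.Perm (Fin N)) ∈ K := K.mul_mem (K.inv_mem memK_D4) (K.mul_mem (K.inv_mem memK_D6) (K.mul_mem (K.inv_mem memK_D6) (K.mul_mem (K.inv_mem memK_D6) (K.mul_mem (K.inv_mem memK_D0) (K.mul_mem (K.inv_mem memK_D5) (K.mul_mem (K.inv_mem memK_D6) (K.mul_mem (K.inv_mem memK_D4) (K.mul_mem (K.inv_mem memK_D0) (K.mul_mem (memK_D1) (K.mul_mem (K.inv_mem memK_D1) (K.mul_mem (memK_D2) (memK_D1))))))))))))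
/-- A strong generator. -/
noncomputable def D8 : G := D6⁻¹ * (D6⁻¹ * (D5⁻¹ * (D5⁻¹ * (D4⁻¹ * (D0⁻¹ * (D5⁻¹ * (D0⁻¹ * (D0⁻¹ * (D1⁻¹ * (D0⁻¹ * (D1⁻¹ * (D2⁻¹))))))))))))
theorem code_D8 : E.IsCode ((D8 : G) : Equiv.Perm (Fin N)) (pq t8) := by
  have h := coe_code_mul codei_D6 (coe_code_mul codei_D6 (coe_code_mul codei_D5 (coe_code_mul codei_D5 (coe_code_mul codei_D4 (coe_code_mul codei_D0 (coe_code_mul codei_D5 (coe_code_mul codei_D0 (coe_code_mul codei_D0 (coe_code_mul codei_D1 (coe_code_mul codei_D0 (coe_code_mul codei_D1 (codei_D2))))))))))))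
  exact congr_of_chk h (by decide +kernel)
theorem codei_D8 : E.IsCode ((D8⁻¹ : G) : Equiv.Perm (Fin N)) (pq ti8) :=
  inv_of_chk code_D8 (by decide +kernel)
theorem memK_D8 : (D8 : Equiv.Perm (Fin N)) ∈ K := K.mul_mem (K.inv_mem memK_D6) (K.mul_mem (K.inv_mem memK_D6) (K.mul_mem (K.inv_mem memK_D5) (K.mul_mem (K.inv_mem memK_D5) (K.mul_mem (K.inv_mem memK_D4) (K.mul_mem (K.inv_mem memK_D0) (K.mul_mem (K.inv_mem memK_D5) (K.mul_mem (K.inv_mem memK_D0) (K.mul_mem (K.inv_mem memK_D0) (K.mul_mem (K.inv_mem memK_D1) (K.mul_mem (K.inv_mem memK_D0) (K.mul_mem (K.inv_mem memK_D1) (K.inv_mem memK_D2))))))))))))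
/-- A strong generator. -/
noncomputable def D9 : G := D6⁻¹ * (D6⁻¹ * (D7⁻¹ * (D5⁻¹ * (D8⁻¹ * (D6⁻¹ * (D0⁻¹ * (D5⁻¹ * (D4⁻¹ * (D5⁻¹ * (D0 * (D2 * (D1 * (D0 * (D0 * (D1 * (D2))))))))))))))))
theorem code_D9 : E.IsCode ((D9 : G) : Equiv.Perm (Fin N)) (pq t9) := by
  have h := coe_code_mul codei_D6 (coe_code_mul codei_D6 (coe_code_mul codei_D7 (coe_code_mul codei_D5 (coe_code_mul codei_D8 (coe_code_mul codei_D6 (coe_code_mul codei_D0 (coe_code_mul codei_D5 (coe_code_mul codei_D4 (coe_code_mul codei_D5 (coe_code_mul code_D0 (coe_code_mul code_D2 (coe_code_mul code_D1 (coe_code_mul code_D0 (coe_code_mul code_D0 (coe_code_mul code_D1 (code_D2))))))))))))))))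
  exact congr_of_chk h (by decide +kernel)
theorem codei_D9 : E.IsCode ((D9⁻¹ : G) : Equiv.Perm (Fin N)) (pq ti9) :=
  inv_of_chk code_D9 (by decide +kernel)
theorem memK_D9 : (D9 : Equiv.Perm (Fin N)) ∈ K := K.mul_mem (K.inv_mem memK_D6) (K.mul_mem (K.inv_mem memK_D6) (K.mul_mem (K.inv_mem memK_D7) (K.mul_mem (K.inv_mem memK_D5) (K.mul_mem (K.inv_mem memK_D8) (K.mul_mem (K.inv_mem memK_D6) (K.mul_mem (K.inv_mem memK_D0) (K.mul_mem (K.inv_mem memK_D5) (K.mul_mem (K.inv_mem memK_D4) (K.mul_mem (K.inv_mem memK_D5) (K.mul_mem (memK_D0) (K.mul_mem (memK_D2) (K.mul_mem (memK_D1) (K.mul_mem (memK_D0) (K.mul_mem (memK_D0) (K.mul_mem (memK_D1) (memK_D2))))))))))))))))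

/-- The strong generators. -/
noncomputable def gK : ℕ → G := lgetD 1 [D8, D9, D6, D7, D4, D5, D0, D1, D2]
/-- Their tables. -/
noncomputable def tK : List ℕ := [t8, t9, t6, t7, t4, t5, t0, t1, t2]
/-- The tables of their inverses. -/
noncomputable def tiK : List ℕ := [ti8, ti9, ti6, ti7, ti4, ti5, ti0, ti1, ti2]
/-- Their codes. -/
noncomputable def cK (k i : ℕ) : ℕ := pq (lgetD 0 tK k) i
/-- The codes of their inverses. -/
noncomputable def ciK (k i : ℕ) : ℕ := pq (lgetD 0 tiK k) i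

/-- The strong generators as data. -/
noncomputable def hh : Hier E H 9 where
  g := fun k => (gK k).1
  c := cK
  ci := ciK
  hg := fun k _ => (gK k).2
  hc := fun k hk => by
    interval_cases k
    · exact code_D8
    · exact code_D9
    · exact code_D6
    · exact code_D7
    · exact code_D4
    · exact code_D5
    · exact code_D0
    · exact code_D1
    · exact code_D2
  hci := fun k hk => by
    interval_cases k
    · exact codei_D8
    · exact codei_D9
    · exact codei_D6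
    · exact codei_D7
    · exact codei_D4
    · exact codei_D5
    · exact codei_D0
    · exact codei_D1
    · exact codei_D2

/-- The codes of the top level. -/
noncomputable def fsTop : ℕ → ℕ → ℕ := lgetD (fun a => a) [pq t0, pq t1, pq t2, pq t3]
/-- The inverse codes of the top level. -/
noncomputable def gsTop : ℕ → ℕ → ℕ := lgetD (fun a => a) [pq ti0, pq ti1, pq ti2, pq ti3]

/-- A level. -/
noncomputable def L0 : Lev :=
  { b := 2024, D := D_L0, arr := A_L0, w := 19, m := 524287, mp := 2047, bn := 11, mg := 15, bd := 15,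
    fs := fsTop, gs := gsTop }

/-- A level. -/
noncomputable def L1 : Lev :=
  { b := 135, D := D_L1, arr := A_L1, w := 18, m := 262143, mp := 2047, bn := 11, mg := 15, bd := 15,
    fs := bc cK 9, gs := bc ciK 9 }

/-- A level. -/
noncomputable def L2 : Lev :=
  { b := 307, D := D_L2, arr := A_L2, w := 18, m := 262143, mp := 2047, bn := 11, mg := 15, bd := 15,
    fs := bc cK 6, gs := bc ciK 6 }

/-- A level. -/
noncomputable def L3 : Lev :=
  { b := 0, D := D_L3, arr := A_L3, w := 17, m := 131071, mp := 2047, bn := 11, mg := 15, bd := 15,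
    fs := bc cK 4, gs := bc ciK 4 }

/-- A level. -/
noncomputable def L4 : Lev :=
  { b := 1, D := D_L4, arr := A_L4, w := 17, m := 131071, mp := 2047, bn := 11, mg := 15, bd := 15,
    fs := bc cK 2, gs := bc ciK 2 }

/-- The base. -/
def baseAll : List ℕ := [2024, 135, 307, 0, 1, 2, 3, 4, 5, 6, 7, 8, 9, 10, 13, 14, 15, 17, 20, 25, 27, 45, 78]
/-- The trailing part of the base. -/
def trailL : List ℕ := [2, 3, 4, 5, 6, 7, 8, 9, 10, 13, 14, 15, 17, 20, 25, 27, 45, 78]

theorem hbl : ∀ b ∈ baseAll, b < N := by decide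
theorem hts : ∀ t ∈ [rowU], ∃ v, (t, v) ∈ R.tests := by
  intro t ht
  rw [List.mem_singleton.1 ht]
  exact ⟨0, List.mem_cons_self⟩
/-- The coefficients. -/
noncomputable def Cq (j i : ℕ) : ℤ := (spanC.getD j []).getD i 0
theorem hspan : chkSpan 8 (famB R.tab baseAll [rowU]) (baseAll.length + [rowU].length) Cq = true := by decide +kernel

theorem based_all : Based E H baseAll := R.based_of (D := 8) (by norm_num) hbl hts hspan
theorem hinj : Function.Injective R.rep := R.rep_inj_of (D := 8) (by norm_num) hbl hts hspan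

theorem tree4 : L4.treeOK N = true := by decide +kernel
/-- The tail of the chain. -/
noncomputable def chTail4 : List Lev := trailL.map triv
set_option maxRecDepth 100000 in
theorem sch4 : schOK N L4 chTail4 2 = true := by decide +kernel
theorem lev4 : LevelSem E (hh.K 2) (hh.K 0) L4 :=
  hh.level_cons (m := 2) (m' := 0) (by norm_num) (by norm_num) rfl rfl (by decide +kernel) tree4 (by decide +kernel) (by decide +kernel)
    (by decide +kernel) (hh.chain_end trailL (by decide)) [2024, 135, 307, 0] ((by decide +kernel : [2024, 135, 307, 0] ++ L4.b :: basesOf chTail4 = baseAll) ▸ based_all) (by decide) (by decide +kernel) sch4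
theorem chT4 : ChainSem E (hh.K 2) (L4 :: chTail4) := ⟨_, lev4, (hh.chain_end trailL (by decide))⟩

theorem tree3 : L3.treeOK N = true := by decide +kernel
/-- The tail of the chain. -/
noncomputable def chTail3 : List Lev := L4 :: chTail4
set_option maxRecDepth 100000 in
theorem sch3 : schOK N L3 chTail3 4 = true := by decide +kernel
theorem lev3 : LevelSem E (hh.K 4) (hh.K 2) L3 :=
  hh.level_cons (m := 4) (m' := 2) (by norm_num) (by norm_num) rfl rfl (by decide +kernel) tree3 (by decide +kernel) (by decide +kernel)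
    (by decide +kernel) chT4 [2024, 135, 307] ((by decide +kernel : [2024, 135, 307] ++ L3.b :: basesOf chTail3 = baseAll) ▸ based_all) (by decide) (by decide +kernel) sch3
theorem chT3 : ChainSem E (hh.K 4) (L3 :: chTail3) := ⟨_, lev3, chT4⟩

theorem tree2 : L2.treeOK N = true := by decide +kernel
/-- The tail of the chain. -/
noncomputable def chTail2 : List Lev := L3 :: chTail3
set_option maxRecDepth 100000 in
theorem sch2 : schOK N L2 chTail2 6 = true := by decide +kernel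
theorem lev2 : LevelSem E (hh.K 6) (hh.K 4) L2 :=
  hh.level_cons (m := 6) (m' := 4) (by norm_num) (by norm_num) rfl rfl (by decide +kernel) tree2 (by decide +kernel) (by decide +kernel)
    (by decide +kernel) chT3 [2024, 135] ((by decide +kernel : [2024, 135] ++ L2.b :: basesOf chTail2 = baseAll) ▸ based_all) (by decide) (by decide +kernel) sch2
theorem chT2 : ChainSem E (hh.K 6) (L2 :: chTail2) := ⟨_, lev2, chT3⟩

theorem tree1 : L1.treeOK N = true := by decide +kernel
/-- The tail of the chain. -/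
noncomputable def chTail1 : List Lev := L2 :: chTail2
set_option maxRecDepth 100000 in
theorem sch1 : schOK N L1 chTail1 9 = true := by decide +kernel
theorem lev1 : LevelSem E (hh.K 9) (hh.K 6) L1 :=
  hh.level_cons (m := 9) (m' := 6) (by norm_num) (by norm_num) rfl rfl (by decide +kernel) tree1 (by decide +kernel) (by decide +kernel)
    (by decide +kernel) chT2 [2024] ((by decide +kernel : [2024] ++ L1.b :: basesOf chTail1 = baseAll) ▸ based_all) (by decide) (by decide +kernel) sch1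
theorem chT1 : ChainSem E (hh.K 9) (L1 :: chTail1) := ⟨_, lev1, chT2⟩

theorem chF : ChainSem E (hh.K 9) [L1, L2, L3, L4] :=
  ⟨_, lev1, _, lev2, _, lev3, _, lev4, hh.K_zero⟩

theorem gens0 : GensIn E K L0 := by
  intro k
  match k with
  | 0 => exact ⟨_, memK_D0, code_D0, codei_D0⟩
  | 1 => exact ⟨_, memK_D1, code_D1, codei_D1⟩
  | 2 => exact ⟨_, memK_D2, code_D2, codei_D2⟩
  | 3 => exact ⟨_, memK_D3, code_D3, codei_D3⟩
  | (k + 4) =>
    refine ⟨1, K.one_mem, isCode_one E, ?_⟩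
    rw [inv_one]
    exact isCode_one E

theorem K_le_H : K ≤ H := by
  rw [K, Subgroup.closure_le]
  rintro s (rfl | rfl | rfl | rfl)
  · exact (D0 : G).2
  · exact (D1 : G).2
  · exact (D2 : G).2
  · exact (D3 : G).2

theorem K1_le : hh.K 9 ≤ K := by
  rw [Hier.K, Subgroup.closure_le]
  rintro _ ⟨k, hk, rfl⟩
  have hk' : k < 9 := hk
  interval_cases k
  · exact memK_D8
  · exact memK_D9
  · exact memK_D6
  · exact memK_D7
  · exact memK_D4
  · exact memK_D5
  · exact memK_D0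
  · exact memK_D1
  · exact memK_D2

theorem hstab : ∀ σ ∈ H, σ (E.pt 2024) = E.pt 2024 → σ ∈ hh.K 9 := by
  rintro _ ⟨g, rfl⟩ hfix
  have hb : 2024 < N := by norm_num
  rw [LRep.coe_pt 2024 hb] at hfix
  have h1 : g.1 leechU' = leechU' := by
    have hvec := R.vec_eq hb rowU'_pt (by decide +kernel)
    have h2 := R.rep_spec g ⟨2024, hb⟩
    rw [hfix, hvec] at h2
    exact h2
  obtain ⟨π, hπ, e⟩ := stab_M22 (R.hG g.2) g.2.1.2 g.2.2 h1
  have hπ' := MathieuGen.gen_M22 _ hπ
  have h2 := rep_mem_closure M22 Θ (hh.K 9) (S := {MathieuFacts.U, MathieuFacts.X, MathieuFacts.Y4}) ?_ hπ' hπ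
  · have h3 : g = MonoidHom.codRestrict (phi.comp (Subgroup.inclusion MathieuOut.M22_le)) Spor.McL
        (fun π => phi_mem_G (π := Subgroup.inclusion MathieuOut.M22_le π) π.2) ⟨π.1, hπ⟩ := Subtype.ext e
    rw [h3]
    exact h2
  · rintro s (rfl | rfl | rfl)
    · exact ⟨memU22, hh.mem_K (k := 6) (by norm_num)⟩
    · exact ⟨memX22, hh.mem_K (k := 7) (by norm_num)⟩
    · exact ⟨memY22, hh.mem_K (k := 8) (by norm_num)⟩

theorem tree0 : L0.treeOK N = true := by decide +kernel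

theorem top : H = K ∧ LevelSem E H (hh.K 9) L0 :=
  level_top K_le_H K1_le gens0 tree0 (by decide +kernel) (by decide +kernel) (hh.fix_K (by norm_num) (by decide +kernel) (by decide +kernel)) hstab

/-- The levels. -/
noncomputable def Ls : List Lev := [L0, L1, L2, L3, L4]

theorem chainH : ChainSem E H Ls := ⟨_, top.2, chF⟩

theorem sizes : (Ls.map (Lev.size N)).prod = 898128000 := by decide +kernel

theorem card_H : Nat.card H = 898128000 := by
  rw [chainH.card_eq, sizes]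

/-- The generators of the Rigidity argument. -/
noncomputable abbrev w : G := D0
/-- The generators of the Rigidity argument. -/
noncomputable abbrev u : G := D1
/-- The generators of the Rigidity argument. -/
noncomputable abbrev x₁ : G := D2
/-- The generators of the Rigidity argument. -/
noncomputable abbrev x₂ : G := D3

/-- The code of `w`. -/
noncomputable abbrev cw : ℕ → ℕ := pq t0
/-- The code of `u`. -/
noncomputable abbrev cu : ℕ → ℕ := pq t1
/-- The code of `x₁`. -/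
noncomputable abbrev cx₁ : ℕ → ℕ := pq t2
/-- The code of `x₂`. -/
noncomputable abbrev cx₂ : ℕ → ℕ := pq t3

theorem based2 : Based E H (basesOf Ls) := based_of_chain chainH
theorem lt2 : ∀ b ∈ basesOf Ls, b < N := bases_lt chainH

/-- The invariant. -/
noncomputable def gr : ℕ → ℕ → ℕ := gramF tP tQ tT
theorem grInv : GramInv E H gr := R.gramInvF (by decide +kernel)

theorem w_pow : w ^ 11 = 1 := eq_of_chk based2 lt2 (coe_pow_isCode code_D0 11) (isCode_one E) (by decide +kernel)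
theorem u_pow : u ^ 5 = 1 := eq_of_chk based2 lt2 (coe_pow_isCode code_D1 5) (isCode_one E) (by decide +kernel)

theorem w_ne : w ≠ 1 := fun h => ne_one_of_code code_D0 (i := 0) (by norm_num) (by decide +kernel) (congrArg Subtype.val h)

theorem orderOf_w : orderOf w = 11 := by
  have : Fact (Nat.Prime 11) := ⟨by norm_num⟩
  exact orderOf_eq_prime w_pow w_ne

theorem rel_uw : u * w = w ^ 3 * u :=
  eq_of_chk based2 lt2 (coe_code_mul code_D1 code_D0) (coe_code_mul (coe_pow_isCode code_D0 3) code_D1) (by decide +kernel)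

theorem conj_uw : u * w * u⁻¹ = w ^ 3 := by rw [rel_uw]; group

/-- Elements of the normaliser of `⟨w⟩`. -/
noncomputable def csN (i : ℕ) : ℕ → ℕ := fun q => iterN cw (i / 5) (iterN cu (i % 5) q)

set_option maxRecDepth 100000 in
theorem sN1 : srch gr cw (iterN cw 1) 11 N (leafT (basesOf Ls) cw (iterN cw 1) csN 55) Ls (fun q => q) [] = true := by decide +kernel
set_option maxRecDepth 100000 in
theorem sN2 : srch gr cw (iterN cw 2) 11 N (leafT (basesOf Ls) cw (iterN cw 2) csN 55) Ls (fun q => q) [] = true := by decide +kernel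
set_option maxRecDepth 100000 in
theorem sN3 : srch gr cw (iterN cw 3) 11 N (leafT (basesOf Ls) cw (iterN cw 3) csN 55) Ls (fun q => q) [] = true := by decide +kernel
set_option maxRecDepth 100000 in
theorem sN4 : srch gr cw (iterN cw 4) 11 N (leafT (basesOf Ls) cw (iterN cw 4) csN 55) Ls (fun q => q) [] = true := by decide +kernel
set_option maxRecDepth 100000 in
theorem sN5 : srch gr cw (iterN cw 5) 11 N (leafT (basesOf Ls) cw (iterN cw 5) csN 55) Ls (fun q => q) [] = true := by decide +kernel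
set_option maxRecDepth 100000 in
theorem sN6 : srch gr cw (iterN cw 6) 11 N (leafT (basesOf Ls) cw (iterN cw 6) csN 55) Ls (fun q => q) [] = true := by decide +kernel
set_option maxRecDepth 100000 in
theorem sN7 : srch gr cw (iterN cw 7) 11 N (leafT (basesOf Ls) cw (iterN cw 7) csN 55) Ls (fun q => q) [] = true := by decide +kernel
set_option maxRecDepth 100000 in
theorem sN8 : srch gr cw (iterN cw 8) 11 N (leafT (basesOf Ls) cw (iterN cw 8) csN 55) Ls (fun q => q) [] = true := by decide +kernel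
set_option maxRecDepth 100000 in
theorem sN9 : srch gr cw (iterN cw 9) 11 N (leafT (basesOf Ls) cw (iterN cw 9) csN 55) Ls (fun q => q) [] = true := by decide +kernel
set_option maxRecDepth 100000 in
theorem sN10 : srch gr cw (iterN cw 10) 11 N (leafT (basesOf Ls) cw (iterN cw 10) csN 55) Ls (fun q => q) [] = true := by decide +kernel

theorem search_N (j : ℕ) (hj : j < 11) (h0 : j ≠ 0) : srch gr cw (iterN cw j) 11 N (leafT (basesOf Ls) cw (iterN cw j) csN 55) Ls (fun q => q) [] = true := by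
  interval_cases j
  · exact absurd rfl h0
  · exact sN1
  · exact sN2
  · exact sN3
  · exact sN4
  · exact sN5
  · exact sN6
  · exact sN7
  · exact sN8
  · exact sN9
  · exact sN10

theorem pow_mod_w (j : ℕ) : w ^ j = w ^ (j % 11) := by
  conv_lhs => rw [← Nat.div_add_mod j 11, pow_add, pow_mul, w_pow, one_pow, one_mul]

theorem hN (g : G) (j : ℕ) (h : g * w * g⁻¹ = w ^ j) : ∃ a b : ℕ, b < 5 ∧ g = w ^ a * u ^ b := by
  have h0 : j % 11 ≠ 0 := by
    intro h0
    rw [pow_mod_w, h0, pow_zero] at h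
    have h3 : g * w = g := mul_inv_eq_one.1 h
    exact w_ne (mul_eq_left.1 h3)
  have h2 := search_N (j % 11) (Nat.mod_lt _ (by norm_num)) h0
  have h3 : (g : Equiv.Perm (Fin N)) * w = ((w ^ (j % 11) : G) : Equiv.Perm (Fin N)) * g := by
    rw [← pow_mod_w, ← h]
    have : g * w = g * w * g⁻¹ * g := by group
    exact congrArg Subtype.val this
  obtain ⟨i, _, hi⟩ := mem_list_of_search (cE := fun i => ((w ^ (i / 5) * u ^ (i % 5) : G) : Equiv.Perm (Fin N)))
    (cs := csN) (K := 55) grInv g.2 code_D0 (coe_pow_isCode code_D0 _) h3 11 chainH (fun i _ => (w ^ (i / 5) * u ^ (i % 5) : G).2)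
    (fun i _ => by
      have h5 := coe_code_mul (coe_pow_isCode code_D0 (i / 5)) (coe_pow_isCode code_D1 (i % 5))
      exact h5) h2
  exact ⟨i / 5, i % 5, Nat.mod_lt _ (by norm_num), Subtype.ext hi⟩

/-- The codes of the centraliser of `u`. -/
noncomputable def csC (i : ℕ) : ℕ → ℕ := fun q => iterN cu (i / 5) (iterN cx₂ (i % 5) q)
/-- The centraliser of `u`. -/
noncomputable def cE (i : ℕ) : G := u ^ (i / 5) * x₂ ^ (i % 5)

theorem code_cE (i : ℕ) : E.IsCode ((cE i : G) : Equiv.Perm (Fin N)) (csC i) := by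
  have h5 := coe_code_mul (coe_pow_isCode code_D1 (i / 5)) (coe_pow_isCode code_D3 (i % 5))
  exact h5

theorem cE_zero : cE 0 = 1 := by simp [cE]

set_option maxRecDepth 100000 in
theorem search_C : srch gr cu cu 5 N (leafT (basesOf Ls) cu cu csC 25) Ls (fun q => q) [] = true := by decide +kernel

theorem hCent (c : G) (h : c * u = u * c) : ∃ i, i < 25 ∧ c = cE i := by
  obtain ⟨i, hi, e⟩ := mem_list_of_search (cE := fun i => ((cE i : G) : Equiv.Perm (Fin N))) (cs := csC) (K := 25)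
    grInv c.2 code_D1 code_D1 (congrArg Subtype.val h) 5 chainH (fun i _ => (cE i : G).2)
    (fun i _ => code_cE i) search_C
  exact ⟨i, hi, Subtype.ext e⟩

theorem rel_x₁u : x₁ * u = u ^ 2 * x₁ :=
  eq_of_chk based2 lt2 (coe_code_mul code_D2 code_D1) (coe_code_mul (coe_pow_isCode code_D1 2) code_D2) (by decide +kernel)
theorem conj_x₁u : x₁ * u * x₁⁻¹ = u ^ 2 := by rw [rel_x₁u]; group
theorem rel_x₂u : x₂ * u = u ^ 1 * x₂ :=
  eq_of_chk based2 lt2 (coe_code_mul code_D3 code_D1) (coe_code_mul (coe_pow_isCode code_D1 1) code_D3) (by decide +kernel)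
theorem conj_x₂u : x₂ * u * x₂⁻¹ = u ^ 1 := by rw [rel_x₂u]; group

theorem closure_top : Subgroup.closure ({w, u, x₁, x₂} : Set G) = ⊤ := by
  rw [eq_top_iff]
  intro g _
  have h1 : (g : Equiv.Perm (Fin N)) ∈ K := by
    rw [← top.1]
    exact g.2
  have h2 : Subgroup.closure (((↑) : G → Equiv.Perm (Fin N)) '' {w, u, x₁, x₂}) =
      (Subgroup.closure ({w, u, x₁, x₂} : Set G)).map H.subtype := by
    rw [MonoidHom.map_closure]
    rfl
  have h3 : K = Subgroup.closure (((↑) : G → Equiv.Perm (Fin N)) '' {w, u, x₁, x₂}) := by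
    rw [K, Sx]
    simp [Set.image_insert_eq]
  rw [h3, h2] at h1
  obtain ⟨g', hg', e⟩ := h1
  have : g' = g := Subtype.ext e
  rwa [← this]

/-- The generators at the first step. -/
noncomputable def gs₁ : ℕ → G := cns w (cns u (fun _ => 1))
/-- Their codes. -/
noncomputable def cs₁ : ℕ → ℕ → ℕ := cns cw (cns cu (fun _ a => a))
/-- The generators at the second step. -/
noncomputable def gs₂ : ℕ → G := cns w (cns u (cns x₁ (fun _ => 1)))
/-- Their codes. -/
noncomputable def cs₂ : ℕ → ℕ → ℕ := cns cw (cns cu (cns cx₁ (fun _ a => a)))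

theorem cs₁_code (i : ℕ) : E.IsCode ((gs₁ i : G) : Equiv.Perm (Fin N)) (cs₁ i) := by
  match i with
  | 0 => exact code_D0
  | 1 => exact code_D1
  | (k + 2) => exact isCode_one E

theorem cs₂_code (i : ℕ) : E.IsCode ((gs₂ i : G) : Equiv.Perm (Fin N)) (cs₂ i) := by
  match i with
  | 0 => exact code_D0
  | 1 => exact code_D1
  | 2 => exact code_D2
  | (k + 3) => exact isCode_one E

theorem cs₁'_code (ψ : MulAut G) (h1 : ψ w = w) (h2 : ψ u = u) (i : ℕ) :
    E.IsCode ((ψ (gs₁ i) : G) : Equiv.Perm (Fin N)) (cs₁ i) := by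
  match i with
  | 0 =>
    show E.IsCode ((ψ w : G) : Equiv.Perm (Fin N)) _
    rw [h1]
    exact code_D0
  | 1 =>
    show E.IsCode ((ψ u : G) : Equiv.Perm (Fin N)) _
    rw [h2]
    exact code_D1
  | (k + 2) =>
    show E.IsCode ((ψ 1 : G) : Equiv.Perm (Fin N)) (fun a => a)
    rw [map_one]
    exact isCode_one E

theorem cs₂'_code (ψ : MulAut G) (h1 : ψ w = w) (h2 : ψ u = u) (h3 : ψ x₁ = x₁) (i : ℕ) :
    E.IsCode ((ψ (gs₂ i) : G) : Equiv.Perm (Fin N)) (cs₂ i) := by
  match i with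
  | 0 =>
    show E.IsCode ((ψ w : G) : Equiv.Perm (Fin N)) _
    rw [h1]
    exact code_D0
  | 1 =>
    show E.IsCode ((ψ u : G) : Equiv.Perm (Fin N)) _
    rw [h2]
    exact code_D1
  | 2 =>
    show E.IsCode ((ψ x₁ : G) : Equiv.Perm (Fin N)) _
    rw [h3]
    exact code_D2
  | (k + 3) =>
    show E.IsCode ((ψ 1 : G) : Equiv.Perm (Fin N)) (fun a => a)
    rw [map_one]
    exact isCode_one E

/-- The accepted candidates. -/
noncomputable def acc (i : ℕ) : Bool := Nat.beq i 0 || Nat.beq i 3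

/-- The codes for the second class of powers. -/
noncomputable def cs₃ : ℕ → ℕ → ℕ := cns (iterN cw 2) (cns cu (fun _ a => a))

theorem cs₃'_code (ψ : MulAut G) (h1 : ψ w = w ^ 2) (h2 : ψ u = u) (i : ℕ) :
    E.IsCode ((ψ (gs₁ i) : G) : Equiv.Perm (Fin N)) (cs₃ i) := by
  match i with
  | 0 =>
    show E.IsCode ((ψ w : G) : Equiv.Perm (Fin N)) _
    rw [h1]
    exact coe_pow_isCode code_D0 2
  | 1 =>
    show E.IsCode ((ψ u : G) : Equiv.Perm (Fin N)) _
    rw [h2]
    exact code_D1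
  | (k + 2) =>
    show E.IsCode ((ψ 1 : G) : Equiv.Perm (Fin N)) (fun a => a)
    rw [map_one]
    exact isCode_one E

theorem tb1 : tblY (basesOf Ls) cs₁ cs₁ cx₁ csC tbl1 25 acc = true := by decide +kernel
/-- The accepted candidates for the second class of powers. -/
noncomputable def acc2 (i : ℕ) : Bool := Nat.beq i 20 || Nat.beq i 23

theorem tb1b : tblY (basesOf Ls) cs₁ cs₃ cx₁ csC tbl1b 25 acc2 = true := by decide +kernel
theorem tb2 : tblX (basesOf Ls) cs₂ cs₂ cx₂ csC tbl2 25 true = true := by decide +kernel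


/-- The codes at the second step, second class of powers. -/
noncomputable def cs₃b20 : ℕ → ℕ → ℕ := cns (iterN cw 2) (cns cu (cns (fun a => cx₁ (csC 20 a)) (fun _ a => a)))

theorem cs₃b20_code (ψ : MulAut G) (h1 : ψ w = w ^ 2) (h2 : ψ u = u) (h3 : ψ x₁ = x₁ * cE 20) (i : ℕ) :
    E.IsCode ((ψ (gs₂ i) : G) : Equiv.Perm (Fin N)) (cs₃b20 i) := by
  match i with
  | 0 =>
    show E.IsCode ((ψ w : G) : Equiv.Perm (Fin N)) _
    rw [h1]
    exact coe_pow_isCode code_D0 2
  | 1 =>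
    show E.IsCode ((ψ u : G) : Equiv.Perm (Fin N)) _
    rw [h2]
    exact code_D1
  | 2 =>
    show E.IsCode ((ψ x₁ : G) : Equiv.Perm (Fin N)) _
    rw [h3]
    have h5 := coe_code_mul code_D2 (code_cE 20)
    exact h5
  | (k + 3) =>
    show E.IsCode ((ψ 1 : G) : Equiv.Perm (Fin N)) (fun a => a)
    rw [map_one]
    exact isCode_one E

theorem tb2b20 : tblX (basesOf Ls) cs₂ cs₃b20 cx₂ csC tbl2b20 25 false = true := by decide +kernel

theorem key₂b20 (ψ : MulAut G) (h1 : ψ w = w ^ 2) (h2 : ψ u = u) (h3 : ψ x₁ = x₁ * cE 20) : False := by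
  obtain ⟨h0, _⟩ := step_tbl (x := x₂) (y := u) (cE := cE) based2 lt2 ψ hCent conj_x₂u h2 cs₂_code
    (cs₃b20_code ψ h1 h2 h3) code_D3 code_cE tb2b20
  exact Bool.noConfusion h0

/-- The codes at the second step, second class of powers. -/
noncomputable def cs₃b23 : ℕ → ℕ → ℕ := cns (iterN cw 2) (cns cu (cns (fun a => cx₁ (csC 23 a)) (fun _ a => a)))

theorem cs₃b23_code (ψ : MulAut G) (h1 : ψ w = w ^ 2) (h2 : ψ u = u) (h3 : ψ x₁ = x₁ * cE 23) (i : ℕ) :
    E.IsCode ((ψ (gs₂ i) : G) : Equiv.Perm (Fin N)) (cs₃b23 i) := by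
  match i with
  | 0 =>
    show E.IsCode ((ψ w : G) : Equiv.Perm (Fin N)) _
    rw [h1]
    exact coe_pow_isCode code_D0 2
  | 1 =>
    show E.IsCode ((ψ u : G) : Equiv.Perm (Fin N)) _
    rw [h2]
    exact code_D1
  | 2 =>
    show E.IsCode ((ψ x₁ : G) : Equiv.Perm (Fin N)) _
    rw [h3]
    have h5 := coe_code_mul code_D2 (code_cE 23)
    exact h5
  | (k + 3) =>
    show E.IsCode ((ψ 1 : G) : Equiv.Perm (Fin N)) (fun a => a)
    rw [map_one]
    exact isCode_one E

theorem tb2b23 : tblX (basesOf Ls) cs₂ cs₃b23 cx₂ csC tbl2b23 25 false = true := by decide +kernel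

theorem key₂b23 (ψ : MulAut G) (h1 : ψ w = w ^ 2) (h2 : ψ u = u) (h3 : ψ x₁ = x₁ * cE 23) : False := by
  obtain ⟨h0, _⟩ := step_tbl (x := x₂) (y := u) (cE := cE) based2 lt2 ψ hCent conj_x₂u h2 cs₂_code
    (cs₃b23_code ψ h1 h2 h3) code_D3 code_cE tb2b23
  exact Bool.noConfusion h0

theorem key₂ (ψ : MulAut G) (h1 : ψ w = w ^ 2) (h2 : ψ u = u) : False := by
  obtain ⟨i, hi, h3⟩ := step_tblY (x := x₁) (y := u) (cE := cE) based2 lt2 ψ hCent conj_x₁u h2 cs₁_code
    (cs₃'_code ψ h1 h2) code_D2 code_cE tb1b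
  have hi' : i = 20 ∨ i = 23 := by
    rw [acc2, Bool.or_eq_true] at hi
    exact hi.imp Nat.eq_of_beq_eq_true Nat.eq_of_beq_eq_true
  rcases hi' with rfl | rfl
  · exact key₂b20 ψ h1 h2 h3
  · exact key₂b23 ψ h1 h2 h3

theorem key₀ (ψ : MulAut G) (h1 : ψ w = w) (h2 : ψ u = u) (h3 : ψ x₁ = x₁) : ψ = 1 := by
  obtain ⟨_, h4⟩ := step_tbl (x := x₂) (y := u) (cE := cE) based2 lt2 ψ hCent conj_x₂u h2 cs₂_code
    (cs₂'_code ψ h1 h2 h3) code_D3 code_cE tb2
  rw [cE_zero, mul_one] at h4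
  apply Cfsg.Agent.Lib.KnownSimple.PE.eq_one_of_fix closure_top
  rintro g (rfl | rfl | rfl | rfl)
  · exact h1
  · exact h2
  · exact h3
  · exact h4

theorem step₁ (ψ : MulAut G) (h1 : ψ w = w) (h2 : ψ u = u) : ∃ i, acc i = true ∧ ψ x₁ = x₁ * cE i :=
  step_tblY based2 lt2 ψ hCent conj_x₁u h2 cs₁_code (cs₁'_code ψ h1 h2) code_D2 code_cE tb1

/-! ### The outer automorphism -/

theorem chkF : chkElt SF SF = true := by decide +kernel

/-- The involution on the lattice. -/
noncomputable def fF : Equiv.Perm LL := Classical.choose (exists_elt chkF)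
theorem fF_co0 : fF ∈ Co0 := (Classical.choose_spec (exists_elt chkF)).1
theorem fF_spec : ∀ (x : LL) (j : ℕ), j < 24 → dotS (rowOf SF j) (toF x) = 8 * ((fF x : LL) : Vec) (pt j) :=
  (Classical.choose_spec (exists_elt chkF)).2
theorem colsF : ∀ i, ∀ q ∈ rowOf SF i, q.1 < 24 := cols_of_all (by decide +kernel)
theorem fF_sq : fF * fF = 1 := sq_of_S colsF fF_spec (by decide +kernel)
theorem fF_inv : fF⁻¹ = fF := inv_eq_of_mul_eq_one_left fF_sq
theorem fF_v : fF leechV = leechV := img_of_S colsF fF_spec rowV_pt rowV_pt (by decide +kernel)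

/-- The second vector. -/
noncomputable def uu2 : LL := -leechU - leechV
/-- Its coordinates. -/
noncomputable def wU2 (j : ℕ) : ℤ := Int.sub (Int.neg (dotS rowU (dlt j))) (dotS rowV (dlt j))
theorem uu2_pt : ∀ j, j < 24 → (uu2 : Vec) (pt j) = wU2 j := fun j hj => by
  show -(leechU : Vec) (pt j) - (leechV : Vec) (pt j) = _
  rw [rowU_pt j hj, rowV_pt j hj]
  rfl

theorem fF_u : fF leechU = uu2 := img_of_S colsF fF_spec rowU_pt uu2_pt (by decide +kernel)

theorem fF_norm : ∀ g ∈ Spor.McL, fF * g * fF⁻¹ ∈ Spor.McL := by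
  intro g hg
  have hc : g ∈ Co0 := hg.1.1
  have hv : g leechV = leechV := hg.1.2
  have hu : g leechU = leechU := hg.2
  have hz2 : ∀ x, fF (fF x) = x := fun x => by
    have := congrArg (fun e : Equiv.Perm LL => e x) fF_sq
    exact this
  have hu2 : g uu2 = uu2 := by
    have h1 : g uu2 = -g leechU - g leechV := (map_sub (gHom hc) (-leechU) leechV).trans (by rw [map_neg]; rfl)
    rw [h1, hu, hv]
    rfl
  refine ⟨⟨Co0.mul_mem (Co0.mul_mem fF_co0 hc) (Co0.inv_mem fF_co0), ?_⟩, ?_⟩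
  · show (fF * g * fF⁻¹) leechV = leechV
    rw [fF_inv, Equiv.Perm.mul_apply, Equiv.Perm.mul_apply, fF_v, hv, fF_v]
  · show (fF * g * fF⁻¹) leechU = leechU
    rw [fF_inv, Equiv.Perm.mul_apply, Equiv.Perm.mul_apply, fF_u, hu2, ← fF_u, hz2]

/-- The outer automorphism. -/
noncomputable def τ : MulAut G := tauR R hinj fF fF_sq fF_norm

theorem tauG_eq (g : ↥Spor.McL) : τ ⟨R.rep g, g, rfl⟩ = ⟨R.rep (tauG fF fF_sq fF_norm g), _, rfl⟩ :=
  tauR_rep R hinj fF fF_sq fF_norm g

theorem τ_sq : τ * τ = 1 := by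
  apply MulEquiv.ext
  rintro ⟨_, g, rfl⟩
  show τ (τ ⟨R.rep g, g, rfl⟩) = ⟨R.rep g, g, rfl⟩
  rw [tauG_eq, tauG_eq]
  have h : tauG fF fF_sq fF_norm (tauG fF fF_sq fF_norm g) = g := (tauG fF fF_sq fF_norm).symm_apply_apply g
  apply Subtype.ext
  show R.rep (tauG fF fF_sq fF_norm (tauG fF fF_sq fF_norm g)) = R.rep g
  rw [h]

theorem tauG_mono {π : ↥M24} (hπ : phi π ∈ Spor.McL) (h : ∀ x, fF (phi π x) = phi π (fF x)) :
    tauG fF fF_sq fF_norm ⟨phi π, hπ⟩ = ⟨phi π, hπ⟩ := by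
  apply Subtype.ext
  show fF * phi π * fF⁻¹ = phi π
  rw [fF_inv]
  refine Equiv.ext fun x => ?_
  have hz2 : fF (fF x) = x := by
    have := congrArg (fun e : Equiv.Perm LL => e x) fF_sq
    exact this
  show (fF (phi π (fF x)) : LL) = phi π x
  rw [h, hz2]

theorem τ_w : τ w = w := by
  have h := tauG_eq gU
  have h2 := tauG_mono (π := ⟨_, MathieuFacts.mem_U⟩) gU.2 (conj_of_S colsF fF_spec MathieuFacts.code_U MathieuFacts.code_U (by decide +kernel))
  have h3 : tauG fF fF_sq fF_norm gU = gU := h2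
  rw [h3] at h
  exact h

theorem τ_u : τ u = u := by
  have h := tauG_eq gX
  have h2 := tauG_mono (π := ⟨_, MathieuFacts.mem_X⟩) gX.2 (conj_of_S colsF fF_spec MathieuFacts.code_X MathieuFacts.code_X (by decide +kernel))
  have h3 : tauG fF fF_sq fF_norm gX = gX := h2
  rw [h3] at h
  exact h

theorem wit_ne : dotS (rowOf SF (Cfsg.Agent.Lib.Golay.pc MathieuData.pY4 0)) (vecZ R.tab (pq t2 0)) ≠ dotS (rowOf SF 0) (vecZ R.tab 0) := by decide +kernel

theorem τ_ne : τ ≠ 1 := by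
  intro h1
  have h := tauG_eq gY
  rw [h1] at h
  have h2 : R.rep gY = R.rep (tauG fF fF_sq fF_norm gY) := congrArg Subtype.val h
  have h3 : tauG fF fF_sq fF_norm gY = gY := (hinj h2).symm
  have h4 : fF * gY.1 * fF⁻¹ = gY.1 := congrArg Subtype.val h3
  rw [fF_inv] at h4
  have hi : 0 < N := by norm_num
  obtain ⟨hf, hy⟩ := R.vec_of_P (π := ⟨_, MathieuFacts.mem_Y4⟩) MathieuFacts.code_Y4 (f := pq t2) (by decide +kernel) ⟨0, hi⟩
  refine ne_conj_of_S colsF fF_spec (π := ⟨_, MathieuFacts.mem_Y4⟩) MathieuFacts.code_Y4 (x := R.vec ⟨0, hi⟩) (fun j hj => R.vec_pt _ hj) (fun j hj => R.vec_pt _ hj) hy (j := 0) (by norm_num) wit_ne ?_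
  have hz2 : ∀ x, fF (fF x) = x := fun x => by
    have := congrArg (fun e : Equiv.Perm LL => e x) fF_sq
    exact this
  have h5 := congrArg (fun e : Equiv.Perm LL => e (fF (R.vec ⟨0, hi⟩))) h4
  have h6 : fF (gY.1 (fF (fF (R.vec ⟨0, hi⟩)))) = gY.1 (fF (R.vec ⟨0, hi⟩)) := h5
  rw [hz2] at h6
  exact h6

theorem key_all (ψ : MulAut G) (h1 : ψ w = w) (h2 : ψ u = u) : ψ = 1 ∨ ψ = τ := by
  obtain ⟨i, hi, h3⟩ := step₁ ψ h1 h2
  obtain ⟨i', hi', h4⟩ := step₁ τ τ_w τ_u
  have hi0 : i' ≠ 0 := by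
    rintro rfl
    rw [cE_zero, mul_one] at h4
    exact τ_ne (key₀ τ τ_w τ_u h4)
  have hacc : ∀ {j : ℕ}, acc j = true → j = 0 ∨ j = 3 := by
    intro j hj
    rw [acc, Bool.or_eq_true] at hj
    exact hj.imp Nat.eq_of_beq_eq_true Nat.eq_of_beq_eq_true
  have hi1 : i' = 3 := (hacc hi').resolve_left hi0
  subst hi1
  rcases hacc hi with rfl | rfl
  · left
    rw [cE_zero, mul_one] at h3
    exact key₀ ψ h1 h2 h3
  · right
    have h5 : τ * ψ = 1 := by
      apply key₀
      · show τ (ψ w) = w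
        rw [h1, τ_w]
      · show τ (ψ u) = u
        rw [h2, τ_u]
      · show τ (ψ x₁) = x₁
        rw [h3, ← h4]
        have := congrArg (fun e : MulAut G => e x₁) τ_sq
        exact this
    calc ψ = (τ * τ) * ψ := by rw [τ_sq, one_mul]
      _ = τ * (τ * ψ) := by rw [mul_assoc]
      _ = τ := by rw [h5, mul_one]

theorem card_not : ¬ 11 ^ 2 ∣ Nat.card G := by
  rw [show Nat.card G = 898128000 from card_H]
  norm_num

theorem hrb : ∀ b, b < 5 → 3 ^ b ≡ 3 [MOD 11] → b = 1 := by decide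
theorem hrb₀ : ∀ b, b < 5 → 3 ^ b ≡ 1 [MOD 11] → b = 0 := by decide
theorem hk₀ : 6 + 1 ≡ 3 * 6 [MOD 11] := by decide
theorem hk₁ : 6 * 3 ≡ 6 + 1 [MOD 11] := by decide

theorem hcl (k : ℕ) (hk : ¬ 11 ∣ k) : ∃ j, ∃ e ∈ [(1, 1), (2, 6)], k * 3 ^ j ≡ (e : ℕ × ℕ).1 [MOD 11] := by
  have h1 : ∀ a : Fin 11, a.val ≠ 0 → ∃ j : Fin 5, ∃ e ∈ [(1, 1), (2, 6)], (a.val * 3 ^ j.val) % 11 = (e : ℕ × ℕ).1 := by
    decide
  have h2 : k % 11 ≠ 0 := fun h0 => hk (Nat.dvd_of_mod_eq_zero h0)
  obtain ⟨j, e, he, h3⟩ := h1 ⟨k % 11, Nat.mod_lt _ (by norm_num)⟩ h2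
  refine ⟨j.val, e, he, ?_⟩
  have h4 : e.1 < 11 := by
    simp only [List.mem_cons, List.not_mem_nil, or_false] at he
    rcases he with rfl | rfl <;> norm_num
  unfold Nat.ModEq
  rw [Nat.mod_eq_of_lt h4, ← h3, Nat.mod_mul_mod]

theorem card_out_G : Nat.card (Out G) = 2 := by
  refine card_out_eq_two (τ := τ) (not_inn_of_fix (by norm_num) orderOf_w conj_uw hN hrb₀ hk₁ τ_w τ_u τ_ne) ?_
  refine inner_or_classes (p := 11) (r := 3) (m := 5) (k₀ := 6) (by norm_num) orderOf_w card_not conj_uw u_pow hN hrb hk₀ [(1, 1), (2, 6)] hcl (by decide) τ_sq ?_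
  intro e he ψ h1 h2
  simp only [List.mem_cons, List.not_mem_nil, or_false] at he
  rcases he with rfl | rfl
  · rw [pow_one] at h1
    exact key_all ψ h1 h2
  · exact (key₂ ψ h1 h2).elim

theorem card_out_McL : Nat.card (Out ↥Spor.McL) = 2 := by
  rw [card_out_congr (equivRange R.rep hinj)]
  exact card_out_G

/-- Every element of the group is a product of the generators. -/
theorem rep_mem_K (g : ↥Spor.McL) : R.rep g ∈ K := by
  rw [← top.1]
  exact ⟨g, rfl⟩

/-- The generators, in the lattice. -/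
theorem gen_McL (x : Equiv.Perm LL) (hx : x ∈ Spor.McL) :
    x ∈ Subgroup.closure ({gU.1, gX.1, gY.1, gE.1} : Set (Equiv.Perm LL)) := by
  have h1 := rep_mem_K ⟨x, hx⟩
  have h2 : K = (Subgroup.closure ({gU, gX, gY, gE} : Set ↥Spor.McL)).map R.rep := by
    rw [MonoidHom.map_closure, K, Sx]
    simp [Set.image_insert_eq]
    rfl
  rw [h2] at h1
  obtain ⟨y, hy, e⟩ := h1
  have h3 : y = ⟨x, hx⟩ := hinj e
  subst h3
  have h4 : Subgroup.closure ((Spor.McL.subtype) '' ({gU, gX, gY, gE} : Set ↥Spor.McL)) =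
      (Subgroup.closure ({gU, gX, gY, gE} : Set ↥Spor.McL)).map Spor.McL.subtype := by
    rw [MonoidHom.map_closure]
  have h5 : x ∈ Subgroup.closure ((Spor.McL.subtype) '' ({gU, gX, gY, gE} : Set ↥Spor.McL)) := by
    rw [h4]
    exact ⟨_, hy, rfl⟩
  have h6 : (Spor.McL.subtype) '' ({gU, gX, gY, gE} : Set ↥Spor.McL) = {gU.1, gX.1, gY.1, gE.1} := by
    simp [Set.image_insert_eq]
  rwa [h6] at h5

end Cfsg.Agent.Lib.KnownSimple.Leech.McL
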